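import Groth.Agent.CBr96.Points
import Groth.Agent.Grpd80.GrpdPoints
import Groth.Agent.FinHopf34.Coaction
import Mathlib.RingTheory.LocalRing.Module
import Mathlib.RingTheory.Flat.FaithfullyFlat.Basic

/-!
# Inertia along the fibres of the quotient map

Trivial inertia is an open condition on `Spec B` which is constant on orbits, and for finite locally
free groups the orbits are the fibres of `Spec B → Spec B^G`.
-/

set_option autoImplicit false
set_option backward.isDefEq.respectTransparency.types false

universe u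

open CategoryTheory CartesianMonoidalCategory AlgebraicGeometry
open scoped MonObj
open scoped TensorProduct

noncomputable section

namespace Groth.Agent.CBr96

variable {R A B : Type u} [CommRing R] [CommRing A] [HopfAlgebra R A] [CommRing B] [Algebra R B]
  [HopfRep.Comod R A B] [GLin.IsCoactAlg R A B]

variable (R A B) in
/-- The functions `b` killing the inertia. -/
def annIdeal : Ideal B :=
  ⨅ a : A, ((stab R A B).colon {aug R A B a}).comap
    (Algebra.TensorProduct.includeLeftRingHom : B →+* B ⊗[R] A)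

theorem mem_annIdeal {b : B} : b ∈ annIdeal R A B ↔ ∀ a : A, (b ⊗ₜ[R] (1 : A)) * aug R A B a ∈ stab R A B := by
  simp only [annIdeal, Ideal.mem_iInf, Ideal.mem_comap, Submodule.mem_colon_singleton, smul_eq_mul,
    Algebra.TensorProduct.includeLeftRingHom_apply]

variable {K : Type u} [CommRing K] [Algebra R K]

theorem triv_of_mem {x : B →ₐ[R] K} {b : B} (hb : b ∈ annIdeal R A B) (hu : IsUnit (x b)) : Triv A x := fun a => by
  have h := Ideal.mem_map_of_mem (xid (A := A) x) (mem_annIdeal.1 hb a)
  rw [map_mul, xid_tmul] at h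
  refine (Ideal.unit_mul_mem_iff_mem _ ?_).1 h
  exact hu.map (Algebra.TensorProduct.includeLeftRingHom : K →+* K ⊗[R] A)

theorem triv_id_iff : Triv A (AlgHom.id R B) ↔ (1 : B) ∈ annIdeal R A B := by
  have e : ∀ z : B ⊗[R] A, xid (A := A) (AlgHom.id R B) z = z := fun z => by simp [xid]
  have hmap : (stab R A B).map (xid (A := A) (AlgHom.id R B)) = stab R A B := by
    refine le_antisymm (Ideal.map_le_iff_le_comap.2 fun z hz => ?_) fun z hz => ?_
    · rw [Ideal.mem_comap, e]; exact hz
    · rw [← e z]; exact Ideal.mem_map_of_mem _ hz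
  simp only [Triv, mem_annIdeal, hmap, e, ← Algebra.TensorProduct.one_def, _root_.one_mul]

theorem triv_iff_of_field [Module.Finite R A] {K : Type u} [Field K] [Algebra R K] (x : B →ₐ[R] K) :
    Triv A x ↔ ¬ annIdeal R A B ≤ RingHom.ker x := by
  constructor
  swap
  · intro h
    obtain ⟨b, hb, hbx⟩ := SetLike.not_le_iff_exists.1 h
    exact triv_of_mem hb (isUnit_iff_ne_zero.2 hbx)
  intro hx hle
  let Q := (B ⊗[R] A) ⧸ stab R A B
  let v : B ⊗[R] A →ₐ[R] B :=
    (Algebra.TensorProduct.rid R R B).toAlgHom.comp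
      (Algebra.TensorProduct.map (AlgHom.id R B) (Bialgebra.counitAlgHom R A))
  have hv : stab R A B ≤ RingHom.ker v := by
    rw [stab, Ideal.span_le]
    rintro _ ⟨b, rfl⟩
    rw [SetLike.mem_coe, RingHom.mem_ker, map_sub, sub_eq_zero]
    have h := LinearMap.congr_fun (HopfRep.Comod.counit_comp (k := R) (A := A) (V := B)) b
    simp only [LinearMap.comp_apply] at h
    have e : ∀ z : B ⊗[R] A, v z = TensorProduct.rid R B ((CoalgebraStruct.counit (R := R) (A := A)).lTensor B z) :=
      fun z => by
        induction z with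
        | zero => simp
        | add p q hp hq => simp only [map_add, hp, hq]
        | tmul p c => simp [v]
    rw [GLin.coactAlgHom_apply, e, h]
    simp [v]
  have hv' : ∀ a ∈ stab R A B, v.toRingHom a = 0 := fun a ha => hv ha
  letI algK : Algebra B K := x.toRingHom.toAlgebra
  haveI : IsScalarTower R B K := IsScalarTower.of_algebraMap_eq fun r => (x.commutes r).symm
  let π : B ⊗[R] A →ₐ[B] Q := Ideal.Quotient.mkₐ B _
  let ret : Q →ₗ[B] B :=
    { toFun := Ideal.Quotient.lift (stab R A B) v.toRingHom hv'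
      map_add' := map_add _
      map_smul' := fun b q => by
        obtain ⟨z, rfl⟩ := Ideal.Quotient.mk_surjective q
        change v (b • z) = b * v z
        rw [Algebra.smul_def, map_mul]
        congr 1
        change v (b ⊗ₜ[R] (1 : A)) = b
        simp [v] }
  let L : Submodule B Q := LinearMap.ker ret
  have hret1 : ret 1 = 1 := map_one (Ideal.Quotient.lift (stab R A B) v.toRingHom hv')
  have hav : ∀ a, ret (π (aug R A B a)) = 0 := fun a => by
    change v (aug R A B a) = 0
    simp [v, aug, Algebra.algebraMap_eq_smul_one]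
  let r : Q →ₗ[B] L :=
    LinearMap.codRestrict L (LinearMap.id - (LinearMap.toSpanSingleton B Q 1).comp ret) fun q => by
      rw [LinearMap.mem_ker]
      simp [hret1]
  have hr : ∀ l : L, r l = l := fun l => Subtype.ext (by
    have := l.2
    rw [LinearMap.mem_ker] at this
    simp [r, this])
  haveI : Module.Finite B (B ⊗[R] A) := Module.Finite.base_change R B A
  haveI : Module.Finite B Q := Module.Finite.of_surjective π.toLinearMap Ideal.Quotient.mk_surjective
  haveI : Module.Finite B L :=
    Module.Finite.of_surjective r fun l => ⟨l, hr l⟩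
  -- the images of the augmentation span `L`
  have hspan : Submodule.span B (Set.range fun a => (⟨π (aug R A B a), hav a⟩ : L)) = ⊤ := by
    refine eq_top_iff.2 fun l _ => ?_
    obtain ⟨z, hz⟩ := Ideal.Quotient.mk_surjective (l : Q)
    rw [← hr l, ← hz]
    clear hz
    induction z with
    | zero => simp
    | add p q hp hq => rw [map_add, map_add]; exact add_mem hp hq
    | tmul b a =>
      have e : r (Ideal.Quotient.mk (stab R A B) (b ⊗ₜ[R] a)) = b • (⟨π (aug R A B a), hav a⟩ : L) := by
        refine Subtype.ext ?_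
        have e1 : Ideal.Quotient.mk (stab R A B) (b ⊗ₜ[R] a) = b • π ((1 : B) ⊗ₜ[R] a) := by
          rw [← map_smul, TensorProduct.smul_tmul', smul_eq_mul, mul_one]; rfl
        have e2 : ret (π ((1 : B) ⊗ₜ[R] a)) = algebraMap R B (CoalgebraStruct.counit (R := R) a) := by
          change v ((1 : B) ⊗ₜ[R] a) = _
          simp [v, Algebra.algebraMap_eq_smul_one]
        rw [e1, map_smul]
        simp only [r, SetLike.val_smul, LinearMap.codRestrict_apply, LinearMap.sub_apply,
          LinearMap.id_apply, LinearMap.comp_apply, LinearMap.toSpanSingleton_apply, e2]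
        rw [aug, map_sub, IsScalarTower.algebraMap_apply R B (B ⊗[R] A), AlgHom.commutes,
          Algebra.algebraMap_eq_smul_one (R := B) (A := Q)]
      rw [e]
      exact Submodule.smul_mem _ _ (Submodule.subset_span ⟨a, rfl⟩)
  -- the base change of `L` to the point vanishes
  let f₁ : K →ₐ[R] K ⊗[B] Q := Algebra.TensorProduct.includeLeft
  let g₁ : A →ₐ[R] K ⊗[B] Q :=
    ((Algebra.TensorProduct.includeRight : Q →ₐ[B] K ⊗[B] Q).restrictScalars R).comp
      ((Ideal.Quotient.mkₐ R (stab R A B)).comp Algebra.TensorProduct.includeRight)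
  have hcomm : ∀ (a : K) (c : A), Commute (f₁ a) (g₁ c) := fun a c => by
    change (a ⊗ₜ[B] (1 : Q)) * ((1 : K) ⊗ₜ[B] π ((1 : B) ⊗ₜ[R] c)) = ((1 : K) ⊗ₜ[B] π ((1 : B) ⊗ₜ[R] c)) * (a ⊗ₜ[B] (1 : Q))
    simp only [Algebra.TensorProduct.tmul_mul_tmul, _root_.mul_one, _root_.one_mul]
  let ψ : K ⊗[R] A →ₐ[R] K ⊗[B] Q := Algebra.TensorProduct.lift f₁ g₁ hcomm
  have hψ : ∀ z, ψ (xid (A := A) x z) = (1 : K) ⊗ₜ[B] π z := fun z => by
    induction z with
    | zero => simp
    | add p q hp hq => simp only [map_add, TensorProduct.tmul_add, hp, hq]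
    | tmul b a =>
      rw [xid_tmul]
      change ψ (x b ⊗ₜ[R] a) = _
      rw [Algebra.TensorProduct.lift_tmul]
      change (x b ⊗ₜ[B] (1 : Q)) * ((1 : K) ⊗ₜ[B] π ((1 : B) ⊗ₜ[R] a)) = _
      rw [Algebra.TensorProduct.tmul_mul_tmul, mul_one, one_mul,
        show x b = b • (1 : K) from (mul_one (x b)).symm, TensorProduct.smul_tmul, ← map_smul,
        TensorProduct.smul_tmul', smul_eq_mul, mul_one]
  have h0 : ∀ a, (1 : K) ⊗ₜ[B] π (aug R A B a) = (0 : K ⊗[B] Q) := fun a => by
    rw [← hψ]
    suffices hker : (stab R A B).map (xid (A := A) x) ≤ RingHom.ker ψ from RingHom.mem_ker.1 (hker (hx a))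
    rw [Ideal.map_le_iff_le_comap]
    refine Ideal.span_le.2 ?_
    rintro _ ⟨b, rfl⟩
    rw [SetLike.mem_coe, Ideal.mem_comap, RingHom.mem_ker, hψ]
    rw [show π (GLin.coactAlgHom R A B b - b ⊗ₜ[R] (1 : A)) = 0 from
      Ideal.Quotient.eq_zero_iff_mem.2 (Ideal.subset_span ⟨b, rfl⟩), TensorProduct.tmul_zero]
  have hsub : Subsingleton (K ⊗[B] L) := by
    refine subsingleton_of_forall_eq 0 fun w => ?_
    induction w with
    | zero => rfl
    | add p q hp hq => rw [hp, hq, add_zero]
    | tmul c l =>
      have hl : l ∈ Submodule.span B (Set.range fun a => (⟨π (aug R A B a), hav a⟩ : L)) := hspan ▸ trivial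
      induction hl using Submodule.span_induction with
      | zero => simp
      | add p q _ _ hp hq => rw [TensorProduct.tmul_add, hp, hq, add_zero]
      | smul b p _ hp => rw [TensorProduct.tmul_smul, hp, smul_zero]
      | mem p hp =>
        obtain ⟨a, rfl⟩ := hp
        have := congrArg (LinearMap.lTensor K r) (h0 a)
        rw [LinearMap.lTensor_tmul, map_zero, show r (π (aug R A B a)) = ⟨π (aug R A B a), hav a⟩ from
          hr ⟨_, hav a⟩] at this
        rw [show c = c • (1 : K) from (mul_one c).symm, ← TensorProduct.smul_tmul', this, smul_zero]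
  let p : PrimeSpectrum B := ⟨RingHom.ker x, RingHom.ker_isPrime x⟩
  haveI hpp : p.asIdeal.IsPrime := p.isPrime
  have hnot : p ∉ Module.support B L := by
    rw [Module.mem_support_iff_nontrivial_residueField_tensorProduct, not_nontrivial_iff_subsingleton]
    let j : p.asIdeal.ResidueField →+* K := Ideal.ResidueField.lift p.asIdeal x.toRingHom le_rfl
      (fun b hb => isUnit_iff_ne_zero.2 hb)
    letI : Algebra p.asIdeal.ResidueField K := j.toAlgebra
    haveI : IsScalarTower B p.asIdeal.ResidueField K :=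
      IsScalarTower.of_algebraMap_eq fun b => (Ideal.ResidueField.lift_algebraMap p.asIdeal x.toRingHom le_rfl
        (fun b hb => isUnit_iff_ne_zero.2 hb) b).symm
    have e := TensorProduct.AlgebraTensorModule.cancelBaseChange B p.asIdeal.ResidueField K K L
    have : Subsingleton (K ⊗[p.asIdeal.ResidueField] (p.asIdeal.ResidueField ⊗[B] L)) := e.toEquiv.subsingleton
    exact (Module.FaithfullyFlat.subsingleton_tensorProduct_iff_right p.asIdeal.ResidueField K).1 this
  apply hnot
  rw [Module.support_eq_zeroLocus, PrimeSpectrum.mem_zeroLocus]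
  intro b hb
  refine hle (mem_annIdeal.2 fun a => ?_)
  have h := congrArg Subtype.val (Module.mem_annihilator.1 hb ⟨π (aug R A B a), hav a⟩)
  rw [SetLike.val_smul, ← map_smul, Algebra.smul_def] at h
  exact Ideal.Quotient.eq_zero_iff_mem.1 h

/-- Trivial inertia at a point only depends on the underlying prime. -/
theorem triv_iff_of_ker [Module.Finite R A] {K K' : Type u} [Field K] [Algebra R K] [Field K'] [Algebra R K']
    {x : B →ₐ[R] K} {x' : B →ₐ[R] K'} (h : RingHom.ker x = RingHom.ker x') : Triv A x ↔ Triv A x' := by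
  rw [triv_iff_of_field, triv_iff_of_field, h]

variable {T : Over (Spec (CommRingCat.of R))}

/-- Translating a point conjugates its fixators. -/
theorem fix_translate (z : T ⟶ CoactBr.sp R B) (g₀ k : T ⟶ CoactBr.sp R A) :
    lift k z ≫ (CoactBr.action R A B).act = z ↔
      lift (g₀⁻¹ * k * g₀) (lift z g₀ ≫ CoactBr.ract R A B) ≫ (CoactBr.action R A B).act =
        lift z g₀ ≫ CoactBr.ract R A B := by
  rw [fix_iff, fix_iff, CoactBr.lift_ract_ract,
    show g₀ * (g₀⁻¹ * k * g₀) = k * g₀ by rw [← _root_.mul_assoc, ← _root_.mul_assoc, mul_inv_cancel, _root_.one_mul]]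
  constructor <;> intro h
  · rw [← CoactBr.lift_ract_ract, h]
  · have := congrArg (fun w => lift w g₀⁻¹ ≫ CoactBr.ract R A B) h
    simp only [CoactBr.lift_ract_ract, mul_inv_cancel_right, mul_inv_cancel, CoactBr.lift_one_ract] at this
    exact this

theorem comp_pt_translate {K : Type u} [CommRing K] [Algebra R K] (x : B →ₐ[R] K) (g₀ : A →ₐ[R] K)
    (h : T ⟶ CoactBr.sp R K) :
    lift (h ≫ CoactBr.pt x) (h ≫ CoactBr.pt g₀) ≫ CoactBr.ract R A B =
      h ≫ CoactBr.pt ((Algebra.TensorProduct.lift x g₀ fun _ _ => .all _ _).comp (GLin.coactAlgHom R A B)) := by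
  rw [← CoactBr.lift_pt_ract, ← comp_lift, Category.assoc]

theorem inTriv_translate {K : Type u} [CommRing K] [Algebra R K] (x : B →ₐ[R] K) (g₀ : A →ₐ[R] K)
    (hx : InTriv A ((Algebra.TensorProduct.lift x g₀ fun _ _ => .all _ _).comp (GLin.coactAlgHom R A B))) :
    InTriv A x := by
  intro T h g hg
  have h1 := (fix_translate (h ≫ CoactBr.pt x) (h ≫ CoactBr.pt g₀) g).1 hg
  rw [comp_pt_translate] at h1
  have h2 := hx T h _ h1
  calc g = (h ≫ CoactBr.pt g₀) * ((h ≫ CoactBr.pt g₀)⁻¹ * g * (h ≫ CoactBr.pt g₀)) * (h ≫ CoactBr.pt g₀)⁻¹ := by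
        group
    _ = 1 := by rw [h2, _root_.mul_one, mul_inv_cancel]

variable [Module.Finite R A] [Module.Projective R A]

theorem hcoassoc (b : B) : (CoalgebraStruct.comul (R := R) (A := A)).lTensor B (GLin.coactAlgHom R A B b) =
    TensorProduct.assoc R B A A ((GLin.coactAlgHom R A B).toLinearMap.rTensor A (GLin.coactAlgHom R A B b)) :=
  (LinearMap.congr_fun (HopfRep.Comod.coassoc (k := R) (A := A) (V := B)) b).symm

theorem hcounit (b : B) :
    TensorProduct.rid R B ((CoalgebraStruct.counit (R := R) (A := A)).lTensor B (GLin.coactAlgHom R A B b)) = b := by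
  have h := LinearMap.congr_fun (HopfRep.Comod.counit_comp (k := R) (A := A) (V := B)) b
  simp only [LinearMap.comp_apply] at h
  rw [GLin.coactAlgHom_apply, h]
  simp

variable (R A B) in
/-- The groupoid of the action. -/
def grp := FinHopf34.grpd (FinHopf34.nonempty_frame (k := R) (H := A)).some (GLin.coactAlgHom R A B)
  (hcoassoc (R := R) (A := A) (B := B)) hcounit

theorem invariants_eq : GLin.invariants R A B =
    AlgHom.equalizer (GLin.coactAlgHom R A B) (Algebra.TensorProduct.includeLeft : B →ₐ[R] B ⊗[R] A) := by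
  ext b; exact Iff.rfl

theorem isIntegral_invariants : Algebra.IsIntegral (GLin.invariants R A B) B := by
  rw [invariants_eq]
  exact FinHopf34.isIntegral_invariants _ hcoassoc hcounit

/-- Points with the same image in the quotient have inertia trivial simultaneously. -/
theorem not_annIdeal_le (p p' : Ideal B) [p.IsPrime] [p'.IsPrime]
    (hC : p.comap (GLin.invariants R A B).val = p'.comap (GLin.invariants R A B).val)
    (hp : ¬ annIdeal R A B ≤ p) : ¬ annIdeal R A B ≤ p' := by
  obtain ⟨Q, hQ, hs, ht⟩ := (grp R A B).exists_arrow (FinHopf34.isInvariants_grpd _ _ _ _) p p' (by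
    ext c
    exact SetLike.ext_iff.1 hC ⟨c.1, c.2⟩)
  let ρ : B ⊗[R] A →ₐ[R] Q.ResidueField := IsScalarTower.toAlgHom R _ _
  let x' : B →ₐ[R] Q.ResidueField := ρ.comp Algebra.TensorProduct.includeLeft
  let g₀ : A →ₐ[R] Q.ResidueField := ρ.comp Algebra.TensorProduct.includeRight
  have hρ : Algebra.TensorProduct.lift x' g₀ (fun _ _ => .all _ _) = ρ :=
    Algebra.TensorProduct.ext' fun b a => by
      rw [Algebra.TensorProduct.lift_tmul]
      change ρ (b ⊗ₜ[R] (1 : A)) * ρ ((1 : B) ⊗ₜ[R] a) = _
      rw [← map_mul, Algebra.TensorProduct.tmul_mul_tmul, _root_.one_mul, _root_.mul_one]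
  have hk : RingHom.ker x' = p' := by
    rw [← hs]
    ext b
    exact Ideal.algebraMap_residueField_eq_zero
  have hk' : RingHom.ker (ρ.comp (GLin.coactAlgHom R A B)) = p := by
    rw [← ht]
    ext b
    exact Ideal.algebraMap_residueField_eq_zero
  rw [← hk', ← triv_iff_of_field, ← inTriv_iff, ← hρ] at hp
  rw [← hk, ← triv_iff_of_field, ← inTriv_iff]
  exact inTriv_translate x' g₀ hp

/-- A prime of the quotient has an invariant killing the inertia outside it if one prime above does. -/
theorem exists_invariant (p : Ideal B) [p.IsPrime] (hp : ¬ annIdeal R A B ≤ p) :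
    ∃ c : GLin.invariants R A B, (c : B) ∈ annIdeal R A B ∧ (c : B) ∉ p := by
  by_contra h
  push Not at h
  have := isIntegral_invariants (R := R) (A := A) (B := B)
  obtain ⟨P, hle, hP, hPp⟩ := Ideal.exists_ideal_over_prime_of_isIntegral
    (p.comap (algebraMap (GLin.invariants R A B) B)) (annIdeal R A B) (fun c hc => h c hc)
  have := hP
  exact not_annIdeal_le p P (by ext c; exact (SetLike.ext_iff.1 hPp c).symm) hp hle

end Groth.Agent.CBr96

end
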