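import Groth.Prelude.Def_CoactBr
import Mathlib.AlgebraicGeometry.GammaSpecAdjunction
import Mathlib.AlgebraicGeometry.Pullbacks

/-!
# Inertia of an action of an affine group on an affine scheme, read on rings

The stabiliser ideal `stab` of `B ⊗ A` and the criterion `Triv x` for the inertia at `x` to be trivial.
-/

set_option autoImplicit false
set_option backward.isDefEq.respectTransparency.types false

universe u

open CategoryTheory MonoidalCategory CartesianMonoidalCategory MonObj AlgebraicGeometry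
open scoped TensorProduct

noncomputable section

namespace Groth.Agent.CBr96

variable (R A B : Type u) [CommRing R] [CommRing A] [HopfAlgebra R A] [CommRing B] [Algebra R B]
  [HopfRep.Comod R A B] [GLin.IsCoactAlg R A B]

/-- The ideal cutting out the fixed pairs `(x, g)`. -/
def stab : Ideal (B ⊗[R] A) :=
  Ideal.span (Set.range fun b => GLin.coactAlgHom R A B b - b ⊗ₜ[R] (1 : A))

/-- The functions `a - ε(a)` of the augmentation ideal. -/
def aug (a : A) : B ⊗[R] A :=
  (1 : B) ⊗ₜ[R] a - algebraMap R (B ⊗[R] A) (CoalgebraStruct.counit (R := R) a)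

variable {R A B}

/-- Change of the point in `B ⊗ A`. -/
def xid {K : Type u} [CommRing K] [Algebra R K] (x : B →ₐ[R] K) : B ⊗[R] A →ₐ[R] K ⊗[R] A :=
  Algebra.TensorProduct.map x (AlgHom.id R A)

omit [HopfRep.Comod R A B] [GLin.IsCoactAlg R A B] in
theorem xid_tmul {K : Type u} [CommRing K] [Algebra R K] (x : B →ₐ[R] K) (b : B) (a : A) :
    xid x (b ⊗ₜ[R] a) = x b ⊗ₜ[R] a := rfl

variable (A) in
/-- The inertia at `x` is trivial, on rings. -/
def Triv {K : Type u} [CommRing K] [Algebra R K] (x : B →ₐ[R] K) : Prop :=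
  ∀ a : A, xid x (aug R A B a) ∈ (stab R A B).map (xid (A := A) x)

/-- `g` fixes `z` for the left action iff `z · g = z`. -/
theorem fix_iff {T : Over (Spec (CommRingCat.of R))} (g : T ⟶ CoactBr.sp R A) (z : T ⟶ CoactBr.sp R B) :
    lift g z ≫ (CoactBr.action R A B).act = z ↔ lift z g ≫ CoactBr.ract R A B = z := by
  rw [CoactBr.lift_action_act]
  constructor <;> intro h
  · have := CoactBr.lift_ract_ract z g⁻¹ g
    rwa [h, inv_mul_cancel, CoactBr.lift_one_ract] at this
  · have := CoactBr.lift_ract_ract z g g⁻¹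
    rwa [h, mul_inv_cancel, CoactBr.lift_one_ract] at this

variable (A) in
/-- The inertia at `x` is trivial, on points. -/
def InTriv {K : Type u} [CommRing K] [Algebra R K] (x : B →ₐ[R] K) : Prop :=
  ∀ (T : Over (Spec (CommRingCat.of R))) (h : T ⟶ CoactBr.sp R K) (g : T ⟶ CoactBr.sp R A),
    lift g (h ≫ CoactBr.pt x) ≫ (CoactBr.action R A B).act = h ≫ CoactBr.pt x → g = 1

section Morphisms

variable {K : Type u} [CommRing K] [Algebra R K]

/-- The map to `Spec (K ⊗ A)` of a pair of points. -/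
def pairHom {T : Over (Spec (CommRingCat.of R))} (h : T ⟶ CoactBr.sp R K) (g : T ⟶ CoactBr.sp R A) :
    T.left ⟶ Spec (CommRingCat.of (K ⊗[R] A)) :=
  (lift h g).left ≫ (pullbackSpecIso R K A).hom

theorem pairHom_fst {T : Over (Spec (CommRingCat.of R))} (h : T ⟶ CoactBr.sp R K) (g : T ⟶ CoactBr.sp R A) :
    pairHom h g ≫ Spec.map (CommRingCat.ofHom
      (Algebra.TensorProduct.includeLeft : K →ₐ[R] K ⊗[R] A).toRingHom) = h.left := by
  rw [pairHom, Category.assoc]
  erw [pullbackSpecIso_hom_fst]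
  exact congrArg CommaMorphism.left (lift_fst h g)

theorem pairHom_snd {T : Over (Spec (CommRingCat.of R))} (h : T ⟶ CoactBr.sp R K) (g : T ⟶ CoactBr.sp R A) :
    pairHom h g ≫ Spec.map (CommRingCat.ofHom
      (Algebra.TensorProduct.includeRight : A →ₐ[R] K ⊗[R] A).toRingHom) = g.left := by
  rw [pairHom, Category.assoc]
  erw [pullbackSpecIso_hom_snd]
  exact congrArg CommaMorphism.left (lift_snd h g)

/-- The functions pulled back by a map to an affine scheme. -/
def secHom {X : Scheme.{u}} {S : Type u} [CommRing S] (φ : X ⟶ Spec (CommRingCat.of S)) : S →+* Γ(X, ⊤) :=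
  ((Scheme.ΓSpecIso (CommRingCat.of S)).inv ≫ φ.appTop).hom

omit [CommRing K] in
theorem secHom_comp {X : Scheme.{u}} {S S' : Type u} [CommRing S] [CommRing S'] (φ : X ⟶ Spec (CommRingCat.of S))
    (f : S' →+* S) : secHom (φ ≫ Spec.map (CommRingCat.ofHom f)) = (secHom φ).comp f := by
  rw [secHom, secHom, Scheme.Hom.comp_appTop, ← Category.assoc]
  have e : (Scheme.ΓSpecIso (CommRingCat.of S')).inv ≫ (Spec.map (CommRingCat.ofHom f)).appTop =
      CommRingCat.ofHom f ≫ (Scheme.ΓSpecIso (CommRingCat.of S)).inv :=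
    (Scheme.ΓSpecIso_inv_naturality (CommRingCat.ofHom f)).symm
  rw [e, Category.assoc]
  rfl

theorem secHom_injective {X : Scheme.{u}} {S : Type u} [CommRing S] {φ ψ : X ⟶ Spec (CommRingCat.of S)}
    (h : secHom φ = secHom ψ) : φ = ψ :=
  ext_to_Spec (CommRingCat.hom_ext h)

variable {T : Over (Spec (CommRingCat.of R))}

theorem secHom_fst (h : T ⟶ CoactBr.sp R K) (g : T ⟶ CoactBr.sp R A) :
    (secHom (pairHom h g)).comp (Algebra.TensorProduct.includeLeft : K →ₐ[R] K ⊗[R] A).toRingHom =
      secHom h.left :=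
  (secHom_comp _ _).symm.trans (congrArg secHom (pairHom_fst h g))

theorem secHom_snd (h : T ⟶ CoactBr.sp R K) (g : T ⟶ CoactBr.sp R A) :
    (secHom (pairHom h g)).comp (Algebra.TensorProduct.includeRight : A →ₐ[R] K ⊗[R] A).toRingHom =
      secHom g.left :=
  (secHom_comp _ _).symm.trans (congrArg secHom (pairHom_snd h g))

omit [HopfAlgebra R A] [HopfRep.Comod R A B] [GLin.IsCoactAlg R A B] in
theorem secHom_pt (h : T ⟶ CoactBr.sp R K) (x : B →ₐ[R] K) :
    secHom (h ≫ CoactBr.pt x).left = (secHom h.left).comp x.toRingHom :=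
  secHom_comp _ _

omit [CommRing A] [HopfAlgebra R A] in
theorem secHom_over (h : T ⟶ CoactBr.sp R K) :
    secHom T.hom = (secHom h.left).comp (algebraMap R K) :=
  (congrArg secHom (Over.w h).symm).trans (secHom_comp h.left (algebraMap R K))

theorem secHom_ract (x : B →ₐ[R] K) (h : T ⟶ CoactBr.sp R K) (g : T ⟶ CoactBr.sp R A) (b : B) :
    secHom (lift (h ≫ CoactBr.pt x) g ≫ CoactBr.ract R A B).left b =
      secHom (pairHom h g) (xid x (GLin.coactAlgHom R A B b)) := by
  have e : pairHom (h ≫ CoactBr.pt x) g = pairHom h g ≫ Spec.map (CommRingCat.ofHom (xid (A := A) x).toRingHom) := by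
    apply secHom_injective
    rw [secHom_comp]
    refine Algebra.TensorProduct.ringHom_ext ?_ ?_
    · refine (secHom_fst (h ≫ CoactBr.pt x) g).trans ?_
      rw [secHom_pt, ← secHom_fst h g]
      exact RingHom.ext fun b => by simp [xid]
    · refine (secHom_snd (h ≫ CoactBr.pt x) g).trans ?_
      rw [← secHom_snd h g]
      exact RingHom.ext fun a => by simp [xid]
  have hl : (lift (h ≫ CoactBr.pt x) g ≫ CoactBr.ract R A B).left =
      pairHom (h ≫ CoactBr.pt x) g ≫ Spec.map (CommRingCat.ofHom (GLin.coactAlgHom R A B).toRingHom) := by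
    rw [Over.comp_left, CoactBr.ract_left]
    exact (Category.assoc _ _ _).symm
  rw [hl, e, secHom_comp, secHom_comp]
  rfl

theorem eq_one_iff (g : T ⟶ CoactBr.sp R A) :
    g = 1 ↔ ∀ a : A, secHom g.left a = secHom T.hom (CoalgebraStruct.counit (R := R) a) := by
  have h1 : (1 : T ⟶ CoactBr.sp R A).left =
      T.hom ≫ Spec.map (CommRingCat.ofHom (Bialgebra.counitAlgHom R A).toRingHom) := by
    let u : T ⟶ CoactBr.sp R R := Over.homMk T.hom (by change T.hom ≫ Spec.map (CommRingCat.ofHom (algebraMap R R)) = T.hom; simp)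
    rw [← MonObj.comp_one u, CoactBr.one_eq_pt]
    change T.hom ≫ Spec.map _ = _
    rfl
  constructor
  · rintro rfl a
    rw [h1, secHom_comp]
    rfl
  · intro h
    refine Over.OverMorphism.ext ?_
    rw [h1]
    apply secHom_injective
    rw [secHom_comp]
    exact RingHom.ext h

theorem secHom_aug (h : T ⟶ CoactBr.sp R K) (g : T ⟶ CoactBr.sp R A) (x : B →ₐ[R] K) (a : A) :
    secHom (pairHom h g) (xid x (aug R A B a)) = secHom g.left a - secHom T.hom (CoalgebraStruct.counit (R := R) a) := by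
  rw [aug, map_sub, map_sub, xid_tmul, map_one, AlgHom.commutes, secHom_over h, ← secHom_snd h g,
    ← secHom_fst h g]
  simp [Algebra.TensorProduct.algebraMap_def]

theorem secHom_stab (x : B →ₐ[R] K) (h : T ⟶ CoactBr.sp R K) (g : T ⟶ CoactBr.sp R A)
    (hfix : lift g (h ≫ CoactBr.pt x) ≫ (CoactBr.action R A B).act = h ≫ CoactBr.pt x) :
    ∀ z ∈ (stab R A B).map (xid (A := A) x), secHom (pairHom h g) z = 0 := by
  rw [fix_iff] at hfix
  suffices h' : (stab R A B).map (xid (A := A) x) ≤ RingHom.ker (secHom (pairHom h g)) from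
    fun z hz => RingHom.mem_ker.1 (h' hz)
  rw [stab, Ideal.map_span, Ideal.span_le]
  rintro _ ⟨_, ⟨b, rfl⟩, rfl⟩
  have e := congrArg (fun φ : T ⟶ CoactBr.sp R B => secHom φ.left b) hfix
  simp only [secHom_ract] at e
  have e2 : secHom (h ≫ CoactBr.pt x).left b = secHom (pairHom h g) (xid x (b ⊗ₜ[R] (1 : A))) := by
    rw [secHom_pt, ← secHom_fst h g]
    rfl
  rw [SetLike.mem_coe, RingHom.mem_ker, map_sub, map_sub, e, e2, sub_self]

theorem inTriv_iff (x : B →ₐ[R] K) : InTriv A x ↔ Triv A x := by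
  constructor
  · intro hx a
    let Q := (K ⊗[R] A) ⧸ (stab R A B).map (xid (A := A) x)
    let q : K ⊗[R] A →ₐ[R] Q := Ideal.Quotient.mkₐ R _
    let g : A →ₐ[R] Q := q.comp Algebra.TensorProduct.includeRight
    let h : K →ₐ[R] Q := q.comp Algebra.TensorProduct.includeLeft
    have hfix : lift (CoactBr.pt g) (CoactBr.pt h ≫ CoactBr.pt x) ≫ (CoactBr.action R A B).act =
        CoactBr.pt h ≫ CoactBr.pt x := by
      rw [fix_iff, ← CoactBr.pt_comp, CoactBr.lift_pt_ract]
      congr 1
      have e : Algebra.TensorProduct.lift (h.comp x) g (fun _ _ => .all _ _) = q.comp (xid (A := A) x) := by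
        refine Algebra.TensorProduct.ext' fun b a => ?_
        rw [Algebra.TensorProduct.lift_tmul]
        change q (x b ⊗ₜ[R] (1 : A)) * q ((1 : K) ⊗ₜ[R] a) = q (x b ⊗ₜ[R] a)
        rw [← map_mul, Algebra.TensorProduct.tmul_mul_tmul, _root_.one_mul, _root_.mul_one]
      ext b
      rw [e]
      refine (Ideal.Quotient.eq (I := (stab R A B).map (xid (A := A) x))).2 ?_
      change xid (A := A) x (GLin.coactAlgHom R A B b) - xid (A := A) x (b ⊗ₜ[R] (1 : A)) ∈ _
      rw [← map_sub]
      exact Ideal.mem_map_of_mem _ (Ideal.subset_span ⟨b, rfl⟩)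
    have h1 := hx _ (CoactBr.pt h) (CoactBr.pt g) hfix
    rw [CoactBr.one_eq_pt] at h1
    have h2 := AlgHom.congr_fun (CoactBr.pt_injective h1) a
    refine (Ideal.Quotient.eq_zero_iff_mem).1 ?_
    simp only [g, AlgHom.comp_apply, Algebra.TensorProduct.includeRight_apply] at h2
    rw [aug, map_sub, xid_tmul, map_one, AlgHom.commutes, map_sub]
    exact sub_eq_zero.2 h2
  · intro hx T h g hfix
    refine (eq_one_iff g).2 fun a => ?_
    rw [← sub_eq_zero, ← secHom_aug h g x a]
    exact secHom_stab x h g hfix _ (hx a)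

end Morphisms

end Groth.Agent.CBr96

end
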