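import Groth.Prelude.Def_CoactBr
import Mathlib.AlgebraicGeometry.Morphisms.FiniteType
import Mathlib.AlgebraicGeometry.Morphisms.Proper
import Mathlib.FieldTheory.Finite.Basic
import Mathlib.GroupTheory.OrderOfElement

/-!
# Points of a group of finite type over an algebraic extension of a finite field are torsion

In finitely many affine charts the multiplication is given by finitely many polynomials, with
coefficients in a finite subfield; the points with coordinates in such a subfield form a finite set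
stable under multiplication.
-/

set_option autoImplicit false
set_option backward.isDefEq.respectTransparency.types false

universe u

open CategoryTheory CartesianMonoidalCategory AlgebraicGeometry Opposite
open scoped MonObj TensorProduct MonoidalCategory

noncomputable section

namespace Groth.Agent.CBr96

local instance braidedAlgSpecOf' (R : Type u) [CommRing R] : (algSpec (CommRingCat.of R)).Braided :=
  braidedAlgSpec

variable {k : Type u} [Field k] (p : ℕ) [CharP k p]

/-- A chart: an affine algebra of finite type with an open immersion into the scheme. -/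
structure Chart (X : Over (Spec (CommRingCat.of k))) where
  R : Type u
  [cR : CommRing R]
  [aR : Algebra k R]
  φ : CoactBr.sp k R ⟶ X
  [isOI : IsOpenImmersion φ.left]
  gens : Finset R
  hgens : Algebra.adjoin k (gens : Set R) = ⊤

attribute [instance] Chart.cR Chart.aR Chart.isOI

/-- A finite cover by charts. -/
theorem exists_charts (X : Over (Spec (CommRingCat.of k))) [LocallyOfFiniteType X.hom] [CompactSpace X.left] :
    ∃ (n : ℕ) (c : Fin n → Chart X), ∀ x : X.left, ∃ i, x ∈ Set.range (c i).φ.left := by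
  classical
  have hch : ∀ x : X.left, ∃ c : Chart X, x ∈ Set.range c.φ.left := by
    intro x
    obtain ⟨U, hU, hxU, -⟩ := exists_isAffineOpen_mem_and_subset (X := X.left) (U := ⊤) (x := x) trivial
    let f : CommRingCat.of k ⟶ Γ(X.left, U) := Spec.preimage (hU.fromSpec ≫ X.hom)
    letI : Algebra k Γ(X.left, U) := f.hom.toAlgebra
    have hf : Spec.map f = hU.fromSpec ≫ X.hom := Spec.map_preimage _
    have : LocallyOfFiniteType (Spec.map f) := by rw [hf]; infer_instance
    have hft : f.hom.FiniteType := (HasRingHomProperty.Spec_iff (P := @LocallyOfFiniteType)).1 this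
    haveI : Algebra.FiniteType k Γ(X.left, U) := hft
    obtain ⟨s, hs⟩ := Algebra.FiniteType.out (R := k) (A := Γ(X.left, U))
    let φ : CoactBr.sp k Γ(X.left, U) ⟶ X := Over.homMk hU.fromSpec (by exact hf.symm)
    haveI : IsOpenImmersion φ.left := hU.isOpenImmersion_fromSpec
    exact ⟨{ R := Γ(X.left, U), φ := φ, gens := s, hgens := hs }, by
      change x ∈ Set.range hU.fromSpec
      rw [hU.range_fromSpec]; exact hxU⟩
  choose c hc using hch
  obtain ⟨t, ht⟩ := isCompact_univ.elim_finite_subcover (fun x => Set.range (c x).φ.left)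
    (fun x => (c x).φ.left.isOpenEmbedding.isOpen_range) (fun x _ => Set.mem_iUnion.2 ⟨x, hc x⟩)
  refine ⟨t.card, fun i => c (t.equivFin.symm i).1, fun x => ?_⟩
  obtain ⟨y, hy, hxy⟩ := Set.mem_iUnion₂.1 (ht (Set.mem_univ x))
  have : ∀ z, z = y → x ∈ Set.range (c z).φ.left := by rintro z rfl; exact hxy
  exact ⟨t.equivFin ⟨y, hy⟩, this _ (by simp)⟩

variable {X : Over (Spec (CommRingCat.of k))}

/-- Any rational point factors through a chart containing it. -/
theorem exists_factor (c : Chart X) (a : CoactBr.sp k k ⟶ X)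
    (ha : a.left (IsLocalRing.closedPoint k) ∈ Set.range c.φ.left) :
    ∃ f : c.R →ₐ[k] k, CoactBr.pt f ≫ c.φ = a := by
  have hsub : Set.range a.left ⊆ Set.range c.φ.left := by
    rintro _ ⟨o, rfl⟩
    rwa [Subsingleton.elim (α := PrimeSpectrum k) o (IsLocalRing.closedPoint k)]
  haveI : @IsOpenImmersion (Spec (CommRingCat.of c.R)) X.left c.φ.left := c.isOI
  let g : Spec (CommRingCat.of k) ⟶ Spec (CommRingCat.of c.R) := IsOpenImmersion.lift c.φ.left a.left hsub
  have hg : g ≫ c.φ.left = a.left := IsOpenImmersion.lift_fac c.φ.left a.left hsub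
  have hover : g ≫ Spec.map (CommRingCat.ofHom (algebraMap k c.R)) =
      Spec.map (CommRingCat.ofHom (algebraMap k k)) := by
    have h1 : (CoactBr.sp k c.R).hom = c.φ.left ≫ X.hom := (Over.w c.φ).symm
    change g ≫ (CoactBr.sp k c.R).hom = (CoactBr.sp k k).hom
    rw [h1]
    exact ((Category.assoc _ _ _).symm.trans (congrArg (· ≫ X.hom) hg)).trans (Over.w a)
  let f : c.R →ₐ[k] k :=
    { (Spec.preimage g).hom with
      commutes' := fun r => by
        rw [← Spec.map_preimage g, ← Spec.map_comp] at hover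
        exact DFunLike.congr_fun (congrArg CommRingCat.Hom.hom (Spec.map_injective hover)) r }
  refine ⟨f, Over.OverMorphism.ext ?_⟩
  rw [Over.comp_left, CoactBr.pt_left]
  refine Eq.trans ?_ hg
  congr 1
  exact Spec.map_preimage g

/-- The elements fixed by the `M`-th power of Frobenius, as a predicate. -/
def Fix (M : ℕ) (z : k) : Prop := z ^ (p ^ M) = z

theorem fix_mul {M : ℕ} {a b : k} (ha : Fix p M a) (hb : Fix p M b) : Fix p M (a * b) := by
  rw [Fix, mul_pow, ha, hb]

theorem fix_inv {M : ℕ} {a : k} (ha : Fix p M a) : Fix p M a⁻¹ := by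
  rw [Fix, inv_pow, ha]

theorem fix_add [Fact p.Prime] {M : ℕ} {a b : k} (ha : Fix p M a) (hb : Fix p M b) : Fix p M (a + b) := by
  rw [Fix, add_pow_char_pow, ha, hb]

theorem fix_zero [Fact p.Prime] {M : ℕ} : Fix p M (0 : k) :=
  zero_pow (pow_ne_zero _ (Fact.out : p.Prime).ne_zero)

omit [CharP k p] in
theorem fix_one {M : ℕ} : Fix p M (1 : k) := one_pow _

omit [CharP k p] in
theorem fix_dvd {M N : ℕ} (h : M ∣ N) {a : k} (ha : Fix p M a) : Fix p N a := by
  obtain ⟨d, rfl⟩ := h
  induction d with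
  | zero => simp [Fix]
  | succ d ih =>
    rw [Fix, Nat.mul_succ, pow_add, pow_mul]
    rw [show a ^ p ^ (M * d) = a from ih]
    exact ha

theorem finite_fix [Fact p.Prime] {M : ℕ} (hM : 0 < M) : {z : k | Fix p M z}.Finite := by
  have h1 : 1 < p ^ M := Nat.one_lt_pow hM.ne' (Fact.out : p.Prime).one_lt
  have hne : (Polynomial.X ^ (p ^ M) - Polynomial.X : Polynomial k) ≠ 0 :=
    FiniteField.X_pow_card_sub_X_ne_zero k h1
  refine (Polynomial.finite_setOfPred_isRoot hne).subset fun z hz => ?_
  rw [Set.mem_setOf_eq] at hz ⊢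
  rw [Polynomial.IsRoot.def, Polynomial.eval_sub, Polynomial.eval_pow, Polynomial.eval_X,
    show z ^ p ^ M = z from hz, sub_self]

/-- The algebra map takes values in a finite field as soon as it does so on the generators. -/
def Bdd {S : Type u} [CommRing S] [Algebra k S] (good : ℕ → (S →ₐ[k] k) → Prop) (r : S) : Prop :=
  ∃ M₀ : ℕ, 0 < M₀ ∧ ∀ M, M₀ ∣ M → ∀ f, good M f → Fix p M (f r)

variable (halg : ∀ x : k, ∃ n : ℕ, 0 < n ∧ x ^ (p ^ n) = x) [Fact p.Prime]

theorem bdd_add {S : Type u} [CommRing S] [Algebra k S] {good : ℕ → (S →ₐ[k] k) → Prop} {r s : S}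
    (hr : Bdd p good r) (hs : Bdd p good s) : Bdd p good (r + s) := by
  obtain ⟨M, hM, h⟩ := hr
  obtain ⟨N, hN, h'⟩ := hs
  exact ⟨M * N, mul_pos hM hN, fun L hL f hf => by
    rw [map_add]
    exact fix_add p (h L ((dvd_mul_right M N).trans hL) f hf) (h' L ((dvd_mul_left N M).trans hL) f hf)⟩

theorem bdd_mul {S : Type u} [CommRing S] [Algebra k S] {good : ℕ → (S →ₐ[k] k) → Prop} {r s : S}
    (hr : Bdd p good r) (hs : Bdd p good s) : Bdd p good (r * s) := by
  obtain ⟨M, hM, h⟩ := hr
  obtain ⟨N, hN, h'⟩ := hs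
  exact ⟨M * N, mul_pos hM hN, fun L hL f hf => by
    rw [map_mul]
    exact fix_mul p (h L ((dvd_mul_right M N).trans hL) f hf) (h' L ((dvd_mul_left N M).trans hL) f hf)⟩

include halg in
theorem bdd_algebraMap {S : Type u} [CommRing S] [Algebra k S] {good : ℕ → (S →ₐ[k] k) → Prop} (c : k) :
    Bdd p good (algebraMap k S c) := by
  obtain ⟨n, hn, hc⟩ := halg c
  exact ⟨n, hn, fun L hL f _ => by rw [AlgHom.commutes]; exact fix_dvd p hL hc⟩

/-- Points of a chart with coordinates in the field with `p^M` elements. -/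
def Good {X : Over (Spec (CommRingCat.of k))} (c : Chart X) (M : ℕ) (f : c.R →ₐ[k] k) : Prop :=
  ∀ g ∈ c.gens, Fix p M (f g)

include halg in
theorem bdd_chart (c : Chart X) (r : c.R) : Bdd p (Good p c) r := by
  have hr : r ∈ Algebra.adjoin k (c.gens : Set c.R) := c.hgens.symm ▸ trivial
  induction hr using Algebra.adjoin_induction with
  | mem x hx => exact ⟨1, one_pos, fun M _ f hf => hf x hx⟩
  | algebraMap r => exact bdd_algebraMap p halg r
  | add x y _ _ hx hy => exact bdd_add p hx hy
  | mul x y _ _ hx hy => exact bdd_mul p hx hy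

/-- Pairs of good points. -/
def Good₂ (c d : Chart X) (M : ℕ) (w : c.R ⊗[k] d.R →ₐ[k] k) : Prop :=
  Good p c M (w.comp Algebra.TensorProduct.includeLeft) ∧
    Good p d M (w.comp Algebra.TensorProduct.includeRight)

include halg in
theorem bdd_pair (c d : Chart X) (z : c.R ⊗[k] d.R) : Bdd p (Good₂ p c d) z := by
  induction z with
  | zero => rw [← map_zero (algebraMap k (c.R ⊗[k] d.R))]; exact bdd_algebraMap p halg 0
  | add x y hx hy => exact bdd_add p hx hy
  | tmul a b =>
    obtain ⟨M, hM, h⟩ := bdd_chart p halg c a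
    obtain ⟨N, hN, h'⟩ := bdd_chart p halg d b
    refine ⟨M * N, mul_pos hM hN, fun L hL w hw => ?_⟩
    rw [← mul_one a, ← one_mul b, ← Algebra.TensorProduct.tmul_mul_tmul, map_mul]
    exact fix_mul p (h L ((dvd_mul_right M N).trans hL) _ hw.1) (h' L ((dvd_mul_left N M).trans hL) _ hw.2)

variable [GrpObj X]

/-- The multiplication on a pair of charts. -/
def mulChart (c d : Chart X) : CoactBr.sp k (c.R ⊗[k] d.R) ⟶ X :=
  (Functor.Monoidal.μIso (algSpec (CommRingCat.of k)) (op (.of k c.R)) (op (.of k d.R))).inv ≫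
    lift (fst _ _ ≫ c.φ) (snd _ _ ≫ d.φ) ≫ μ[X]

theorem pt_mulChart (c d : Chart X) (f : c.R →ₐ[k] k) (g : d.R →ₐ[k] k) :
    CoactBr.pt (Algebra.TensorProduct.lift f g fun _ _ => .all _ _) ≫ mulChart c d =
      (CoactBr.pt f ≫ c.φ) * (CoactBr.pt g ≫ d.φ) := by
  have h := CoactBr.lift_pt_pt (R := k) (B := c.R) (A := d.R) f g
  have e : Functor.LaxMonoidal.μ (algSpec (CommRingCat.of k)) (op (.of k c.R)) (op (.of k d.R)) ≫ mulChart c d =
      lift (fst _ _ ≫ c.φ) (snd _ _ ≫ d.φ) ≫ μ[X] :=
    (Functor.Monoidal.μIso (algSpec (CommRingCat.of k)) (op (.of k c.R)) (op (.of k d.R))).hom_inv_id_assoc _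
  rw [← h]
  refine (Category.assoc _ _ _).trans ((congrArg (lift (CoactBr.pt f) (CoactBr.pt g) ≫ ·) e).trans ?_)
  rw [← Category.assoc, Hom.mul_def]
  congr 1
  refine (comp_lift _ _ _).trans ?_
  congr 1
  · exact (Category.assoc _ _ _).symm.trans (congrArg (· ≫ c.φ) (lift_fst _ _))
  · exact (Category.assoc _ _ _).symm.trans (congrArg (· ≫ d.φ) (lift_snd _ _))

include halg in
/-- The product of two good points is good. -/
theorem exists_bound {n : ℕ} (c : Fin n → Chart X) (hc : ∀ x : X.left, ∃ i, x ∈ Set.range (c i).φ.left)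
    (i j : Fin n) :
    ∃ M₀ : ℕ, 0 < M₀ ∧ ∀ M, M₀ ∣ M → ∀ (f : (c i).R →ₐ[k] k) (g : (c j).R →ₐ[k] k),
      Good p (c i) M f → Good p (c j) M g →
        ∃ (l : Fin n) (e : (c l).R →ₐ[k] k), Good p (c l) M e ∧
          CoactBr.pt e ≫ (c l).φ = (CoactBr.pt f ≫ (c i).φ) * (CoactBr.pt g ≫ (c j).φ) := by
  classical
  let S := (c i).R ⊗[k] (c j).R
  let m := mulChart (c i) (c j)
  -- basic opens on which the multiplication lands in a chart
  have hloc : ∀ P : PrimeSpectrum S, ∃ (h : S) (l : Fin n) (ψ : (c l).R →ₐ[k] Localization.Away h),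
      P ∈ PrimeSpectrum.basicOpen h ∧
        CoactBr.pt ψ ≫ (c l).φ = CoactBr.pt (IsScalarTower.toAlgHom k S (Localization.Away h)) ≫ m := by
    intro P
    obtain ⟨l, hl⟩ := hc (m.left P)
    obtain ⟨_, ⟨h, rfl⟩, hP, hsub⟩ := PrimeSpectrum.isTopologicalBasis_basic_opens.exists_subset_of_mem_open
      (show P ∈ m.left ⁻¹' Set.range (c l).φ.left from hl)
      (((c l).φ.left.isOpenEmbedding.isOpen_range).preimage m.left.continuous)
    let q : CoactBr.sp k (Localization.Away h) ⟶ X :=
      CoactBr.pt (IsScalarTower.toAlgHom k S (Localization.Away h)) ≫ m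
    have hq : Set.range q.left ⊆ Set.range (c l).φ.left := by
      rintro _ ⟨o, rfl⟩
      have hmem : PrimeSpectrum.comap (algebraMap S (Localization.Away h)) o ∈ PrimeSpectrum.basicOpen h := by
        rw [← SetLike.mem_coe, ← PrimeSpectrum.localization_away_comap_range (Localization.Away h) h]
        exact ⟨o, rfl⟩
      exact hsub hmem
    haveI : @IsOpenImmersion (Spec (CommRingCat.of (c l).R)) X.left (c l).φ.left := (c l).isOI
    let r : Spec (CommRingCat.of (Localization.Away h)) ⟶ Spec (CommRingCat.of (c l).R) :=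
      IsOpenImmersion.lift (c l).φ.left q.left hq
    have hr : r ≫ (c l).φ.left = q.left := IsOpenImmersion.lift_fac (c l).φ.left q.left hq
    let ψ : (c l).R →ₐ[k] Localization.Away h :=
      { (Spec.preimage r).hom with
        commutes' := fun z => by
          have hover : r ≫ Spec.map (CommRingCat.ofHom (algebraMap k (c l).R)) =
              Spec.map (CommRingCat.ofHom (algebraMap k (Localization.Away h))) := by
            change r ≫ (CoactBr.sp k (c l).R).hom = (CoactBr.sp k (Localization.Away h)).hom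
            rw [← Over.w (c l).φ]
            exact ((Category.assoc _ _ _).symm.trans (congrArg (· ≫ X.hom) hr)).trans (Over.w q)
          rw [← Spec.map_preimage r, ← Spec.map_comp] at hover
          exact DFunLike.congr_fun (congrArg CommRingCat.Hom.hom (Spec.map_injective hover)) z }
    refine ⟨h, l, ψ, hP, Over.OverMorphism.ext ?_⟩
    rw [Over.comp_left, CoactBr.pt_left]
    refine Eq.trans ?_ hr
    congr 1
    exact Spec.map_preimage r
  choose h l ψ hP hψ using hloc
  obtain ⟨t, ht⟩ := isCompact_univ.elim_finite_subcover (fun P => ((PrimeSpectrum.basicOpen (h P)) : Set (PrimeSpectrum S)))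
    (fun P => (PrimeSpectrum.basicOpen (h P)).2) (fun P _ => Set.mem_iUnion.2 ⟨P, hP P⟩)
  -- numerators of the coordinates
  have hnum : ∀ (P : PrimeSpectrum S) (g : (c (l P)).R), ∃ (z : S) (N : ℕ),
      ψ P g * algebraMap S _ (h P ^ N) = algebraMap S (Localization.Away (h P)) z := by
    intro P g
    obtain ⟨⟨z, ⟨_, N, rfl⟩⟩, e⟩ := IsLocalization.surj (Submonoid.powers (h P)) (ψ P g)
    exact ⟨z, N, e⟩
  choose z N hz using hnum
  choose Mh hMh0 hMh using fun P => bdd_pair p halg (c i) (c j) (h P)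
  choose Mz hMz0 hMz using fun P g => bdd_pair p halg (c i) (c j) (z P g)
  refine ⟨∏ P ∈ t, (Mh P * ∏ g ∈ (c (l P)).gens, Mz P g),
    Finset.prod_pos fun P _ => mul_pos (hMh0 P) (Finset.prod_pos fun g _ => hMz0 P g), fun M hM f g hf hg => ?_⟩
  let w : S →ₐ[k] k := Algebra.TensorProduct.lift f g fun _ _ => .all _ _
  have hw : Good₂ p (c i) (c j) M w := by
    constructor
    · intro x hx
      have := hf x hx
      simpa [w] using this
    · intro x hx
      have := hg x hx
      simpa [w] using this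
  let Pw : PrimeSpectrum S := ⟨RingHom.ker w, RingHom.ker_isPrime w⟩
  obtain ⟨P, hPt, hPw⟩ := Set.mem_iUnion₂.1 (ht (Set.mem_univ Pw))
  have hne : w (h P) ≠ 0 := fun e => hPw (RingHom.mem_ker.2 e)
  let w' : Localization.Away (h P) →ₐ[k] k :=
    { IsLocalization.Away.lift (S := Localization.Away (h P)) (h P) (g := w.toRingHom) (isUnit_iff_ne_zero.2 hne) with
      commutes' := fun r => by
        rw [IsScalarTower.algebraMap_apply k S (Localization.Away (h P))]
        change IsLocalization.Away.lift (h P) _ (algebraMap S _ (algebraMap k S r)) = _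
        rw [IsLocalization.Away.lift_eq]
        exact w.commutes r }
  have hw' : w'.comp (IsScalarTower.toAlgHom k S (Localization.Away (h P))) = w :=
    AlgHom.ext fun s => IsLocalization.Away.lift_eq (h P) (isUnit_iff_ne_zero.2 hne) s
  refine ⟨l P, w'.comp (ψ P), fun x hx => ?_, ?_⟩
  · have hdvd : Mh P * ∏ g ∈ (c (l P)).gens, Mz P g ∣ M := (Finset.dvd_prod_of_mem _ hPt).trans hM
    have e1 : Fix p M (w (h P)) := hMh P M ((dvd_mul_right _ _).trans hdvd) w hw
    have e2 : Fix p M (w (z P x)) :=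
      hMz P x M (((Finset.dvd_prod_of_mem _ hx).trans (dvd_mul_left _ _)).trans hdvd) w hw
    have e3 : w' (ψ P x) * w (h P) ^ N P x = w (z P x) := by
      have := congrArg w' (hz P x)
      rw [map_mul] at this
      rw [← map_pow, ← hw']
      exact this
    have e4 : w' (ψ P x) = w (z P x) * (w (h P) ^ N P x)⁻¹ := by
      rw [← e3, mul_assoc, mul_inv_cancel₀ (pow_ne_zero _ hne), mul_one]
    rw [AlgHom.comp_apply, e4]
    refine fix_mul p e2 (fix_inv p ?_)
    rw [Fix, ← pow_mul, mul_comm, pow_mul, show w (h P) ^ p ^ M = w (h P) from e1]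
  · rw [CoactBr.pt_comp, Category.assoc, hψ, ← Category.assoc, ← CoactBr.pt_comp, hw']
    exact pt_mulChart _ _ f g

include halg in
/-- Rational points are torsion. -/
theorem isOfFinOrder_point [LocallyOfFiniteType X.hom] [CompactSpace X.left] (a : CoactBr.sp k k ⟶ X) :
    IsOfFinOrder a := by
  classical
  obtain ⟨n, c, hc⟩ := exists_charts X
  obtain ⟨i₀, hi₀⟩ := hc (a.left (IsLocalRing.closedPoint k))
  obtain ⟨f₀, hf₀⟩ := exists_factor (c i₀) a hi₀
  choose B hB0 hB using fun ij : Fin n × Fin n => exists_bound p halg c hc ij.1 ij.2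
  choose na hna0 hna using fun g : (c i₀).R => halg (f₀ g)
  let M := (∏ ij, B ij) * ∏ g ∈ (c i₀).gens, na g
  have hM : 0 < M := mul_pos (Finset.prod_pos fun ij _ => hB0 ij) (Finset.prod_pos fun g _ => hna0 g)
  have hf₀M : Good p (c i₀) M f₀ := fun g hg =>
    fix_dvd p ((Finset.dvd_prod_of_mem _ hg).trans (dvd_mul_left _ _)) (hna g)
  let T : Set (CoactBr.sp k k ⟶ X) := ⋃ i, (fun f => CoactBr.pt f ≫ (c i).φ) '' {f | Good p (c i) M f}
  have hT : T.Finite := by
    refine Set.finite_iUnion fun i => Set.Finite.image _ ?_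
    refine Set.Finite.of_finite_image (f := fun (f : (c i).R →ₐ[k] k) (g : (c i).gens) => f g.1) ?_ ?_
    · refine (Set.Finite.pi (t := fun _ : (c i).gens => {z : k | Fix p M z}) fun _ => finite_fix p hM).subset ?_
      rintro _ ⟨f, hf, rfl⟩ g -
      exact hf g.1 g.2
    · intro f _ f' _ e
      refine AlgHom.ext_of_adjoin_eq_top (c i).hgens fun x hx => ?_
      exact congrFun e ⟨x, hx⟩
  have hmem : ∀ m : ℕ, a ^ (m + 1) ∈ T := by
    intro m
    induction m with
    | zero => rw [pow_one]; exact Set.mem_iUnion.2 ⟨i₀, f₀, hf₀M, hf₀⟩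
    | succ m ih =>
      obtain ⟨i, f, hf, e⟩ := Set.mem_iUnion.1 ih
      obtain ⟨l, e', he', h'⟩ := hB (i, i₀) M
        ((Finset.dvd_prod_of_mem _ (Finset.mem_univ _)).trans (dvd_mul_right _ _)) f f₀ hf hf₀M
      refine Set.mem_iUnion.2 ⟨l, e', he', ?_⟩
      rw [pow_succ, ← show CoactBr.pt f ≫ (c i).φ = a ^ (m + 1) from e]
      exact h'.trans (by rw [hf₀])
  haveI := hT.to_subtype
  obtain ⟨s, t, hst, e⟩ := Finite.exists_ne_map_eq_of_infinite (fun m : ℕ => (⟨a ^ (m + 1), hmem m⟩ : T))
  have e' : a ^ (s + 1) = a ^ (t + 1) := congrArg Subtype.val e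
  rw [isOfFinOrder_iff_pow_eq_one]
  rcases Nat.lt_or_gt_of_ne hst with h | h
  · refine ⟨t - s, by omega, ?_⟩
    apply mul_left_cancel (a := a ^ (s + 1))
    rw [← pow_add, mul_one, show s + 1 + (t - s) = t + 1 by omega, e']
  · refine ⟨s - t, by omega, ?_⟩
    apply mul_left_cancel (a := a ^ (t + 1))
    rw [← pow_add, mul_one, show t + 1 + (s - t) = s + 1 by omega, e']

include halg in
theorem isOfFinOrder_unitPoint [LocallyOfFiniteType X.hom] [CompactSpace X.left]
    (a : 𝟙_ (Over (Spec (CommRingCat.of k))) ⟶ X) : IsOfFinOrder a := by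
  obtain ⟨n, hn, e⟩ := isOfFinOrder_iff_pow_eq_one.1
    (isOfFinOrder_point p halg (toUnit (CoactBr.sp k k) ≫ a))
  let s : 𝟙_ (Over (Spec (CommRingCat.of k))) ⟶ CoactBr.sp k k :=
    Over.homMk (𝟙 _) (by change 𝟙 _ ≫ Spec.map (CommRingCat.ofHom (algebraMap k k)) = 𝟙 _; simp)
  have hs : s ≫ toUnit _ = 𝟙 _ := toUnit_unique _ _
  refine isOfFinOrder_iff_pow_eq_one.2 ⟨n, hn, ?_⟩
  have h1 : toUnit (CoactBr.sp k k) ≫ (a ^ n) = 1 := by rw [MonObj.comp_pow]; exact e
  calc a ^ n = (s ≫ toUnit _) ≫ (a ^ n) := by rw [hs, Category.id_comp]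
    _ = s ≫ 1 := by rw [Category.assoc, h1]
    _ = 1 := MonObj.comp_one s

end Groth.Agent.CBr96

end
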